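import Groth.Agent.Lib.ProjSp.OverAffine
import Groth.Agent.Lib.ProjDim.Const

/-!
# `ℙⁿ` over an affine base is isomorphic to `Proj`; irreducibility over a field
-/

universe u

set_option backward.isDefEq.respectTransparency false

open AlgebraicGeometry CategoryTheory CategoryTheory.Limits TopologicalSpace Opposite MvPolynomial

noncomputable section

namespace GrothLib.ProjIso26

open GrothLib.Ample GrothLib.Ample.ProjMap

variable {n : ℕ} {R : Type u} [CommRing R]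

theorem isIso_toProjSpace (n : ℕ) (R : Type u) [CommRing R] :
    IsIso (toProjSpace n R) := by
  let pr : CohB1.ProjSpaceOver n (Spec (CommRingCat.of R)) ⟶ CohB1.ProjSpace n (ULift.{u} ℤ) :=
    pullback.fst (CohB1.ProjSpace.toSpec n (ULift.{u} ℤ)) (specULiftZIsTerminal.from _)
  let Dθ := dataOfMorphism pr (CohB1.ProjSpaceOver.toBase n (Spec (CommRingCat.of R)))
  let θ := toProjSpace n R
  let q₀ : CohB1.ProjSpace n R ⟶ Spec (CommRingCat.of (ULift.{u} ℤ)) := specULiftZIsTerminal.from _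
  let Dχ := dataOfMorphism (𝟙 (CohB1.ProjSpace n R)) q₀
  let χ : CohB1.ProjSpace n R ⟶ CohB1.ProjSpace n (ULift.{u} ℤ) := Dχ.map
  let ψ : CohB1.ProjSpace n R ⟶ CohB1.ProjSpaceOver n (Spec (CommRingCat.of R)) :=
    pullback.lift χ (CohB1.ProjSpace.toSpec n R) (specULiftZIsTerminal.hom_ext _ _)
  have hχ : θ ≫ χ = pr := by
    have hle : ∀ k : ULift.{u} (Fin (n + 1)),
        (θ ≫ χ) ⁻¹ᵁ (pcoc n (ULift.{u} ℤ)).D k ≤ pr ⁻¹ᵁ (pcoc n (ULift.{u} ℤ)).D k := fun k => by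
      rw [Scheme.Hom.comp_preimage]
      exact le_of_eq ((congrArg (θ ⁻¹ᵁ ·) (Dχ.map_preimage k.down)).trans (Dθ.map_preimage k.down))
    refine ext_of_ratios _ _ (specULiftZIsTerminal.hom_ext _ _) hle fun k j => ?_
    obtain ⟨k⟩ := k
    rw [pullRatio, ← Scheme.Hom.appLE_comp_appLE θ χ ((pcoc n (ULift.{u} ℤ)).D ⟨k⟩)
      ((pcoc n R).D ⟨k⟩) _ (Dχ.map_preimage k).ge (le_of_eq (Scheme.Hom.comp_preimage θ χ _ ▸
        congrArg (θ ⁻¹ᵁ ·) (Dχ.map_preimage k))), CommRingCat.comp_apply]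
    refine (congrArg _ (Dχ.map_appLE_ratio k j le_rfl (Dχ.map_preimage k).ge)).trans ?_
    rw [res_self]
    refine (congrArg _ (?_ : _ = Proj.awayToSection (CohB1.polyGrading n R) (X k) (ratio k j))).trans
      (Dθ.map_appLE_ratio k j (hle ⟨k⟩) _)
    show (Scheme.Hom.appLE (𝟙 (CohB1.ProjSpace n R)) _ _ _).hom _ = _
    simp [Scheme.Hom.appLE]
    rfl
  have hid : θ ≫ ψ = 𝟙 _ := by
    refine pullback.hom_ext ?_ ?_
    · rw [Category.assoc, pullback.lift_fst, Category.id_comp]; exact hχ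
    · rw [Category.assoc, pullback.lift_snd, Category.id_comp]; exact toProjSpace_toSpec n R
  refine ⟨ψ, hid, ?_⟩
  show ψ ≫ θ = _
  have hfst : ψ ≫ pr = χ := pullback.lift_fst _ _ _
  have hsnd : (ψ ≫ θ) ≫ CohB1.ProjSpace.toSpec n R = 𝟙 _ ≫ CohB1.ProjSpace.toSpec n R := by
    rw [Category.assoc, show θ ≫ CohB1.ProjSpace.toSpec n R = _ from toProjSpace_toSpec n R, Category.id_comp]
    exact pullback.lift_snd _ _ _
  have hpre : ∀ k : ULift.{u} (Fin (n + 1)),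
      (ψ ≫ θ) ⁻¹ᵁ (pcoc n R).D k = χ ⁻¹ᵁ (pcoc n (ULift.{u} ℤ)).D k := fun k => by
    rw [Scheme.Hom.comp_preimage]
    refine (congrArg (ψ ⁻¹ᵁ ·) (Dθ.map_preimage k.down)).trans ?_
    show ψ ⁻¹ᵁ (pr ⁻¹ᵁ (pcoc n (ULift.{u} ℤ)).D k) = _
    rw [← Scheme.Hom.comp_preimage, hfst]
  have hle : ∀ k : ULift.{u} (Fin (n + 1)),
      (ψ ≫ θ) ⁻¹ᵁ (pcoc n R).D k ≤ 𝟙 (CohB1.ProjSpace n R) ⁻¹ᵁ (pcoc n R).D k := fun k =>
    le_of_eq ((hpre k).trans (Dχ.map_preimage k.down))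
  refine ext_of_ratios _ _ hsnd hle fun k j => ?_
  obtain ⟨k⟩ := k
  have e1 : (ψ ≫ θ) ⁻¹ᵁ (pcoc n R).D ⟨k⟩ ≤ ψ ⁻¹ᵁ Dθ.U k :=
    le_of_eq (by rw [Scheme.Hom.comp_preimage]; exact congrArg (ψ ⁻¹ᵁ ·) (Dθ.map_preimage k))
  rw [pullRatio, ← Scheme.Hom.appLE_comp_appLE ψ θ ((pcoc n R).D ⟨k⟩) (Dθ.U k) _ (Dθ.map_preimage k).ge e1,
    CommRingCat.comp_apply]
  refine (congrArg _ (Dθ.map_appLE_ratio k j le_rfl (Dθ.map_preimage k).ge)).trans ?_
  rw [res_self]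
  show (ψ.appLE _ _ e1).hom ((pr.appLE _ (Dθ.U k) le_rfl).hom _) = _
  rw [← CommRingCat.comp_apply, Scheme.Hom.appLE_comp_appLE]
  have key : ∀ (f : CohB1.ProjSpace n R ⟶ CohB1.ProjSpace n (ULift.{u} ℤ)) (e : f = χ)
      {W : (CohB1.ProjSpace n R).Opens} (h : W ≤ f ⁻¹ᵁ (pcoc n (ULift.{u} ℤ)).D ⟨k⟩) (hW : W ≤ Dχ.U k),
      (f.appLE _ W h).hom (Proj.awayToSection (CohB1.polyGrading n (ULift.{u} ℤ)) (X k) (ratio k j)) =
        res hW (Dχ.φ k j) := by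
    rintro f rfl W h hW
    exact Dχ.map_appLE_ratio k j hW h
  refine (key _ hfst _ (le_of_eq ((hpre ⟨k⟩).trans (Dχ.map_preimage k)))).trans ?_
  rfl

theorem isIntegral_projSpaceOver_field (n : ℕ) (K : Type u) [Field K] :
    IsIntegral (CohB1.ProjSpaceOver n (Spec (CommRingCat.of K))) := by
  haveI := isIso_toProjSpace n K
  haveI : IsIntegral (CohB1.ProjSpace n K) := GrothLib.ProjDim.isIntegral_proj K n
  haveI : Nonempty (CohB1.ProjSpaceOver n (Spec (CommRingCat.of K))) :=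
    ⟨(inv (toProjSpace n K)) (Classical.arbitrary _)⟩
  exact isIntegral_of_isOpenImmersion (toProjSpace n K)

end GrothLib.ProjIso26
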